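import Mathlib.LinearAlgebra.TensorProduct.Basis
import Mathlib.LinearAlgebra.TensorProduct.Basic
import Mathlib.RepresentationTheory.Basic
import Mathlib.Data.ZMod.Basic
import Mathlib.Algebra.Field.ZMod
import Mathlib.LinearAlgebra.Basis.VectorSpace
import Mathlib.Tactic.LinearCombination
import Mathlib.Tactic.Module

set_option autoImplicit false

/-!
# Symmetric and alternating squares in characteristic two
-/

open scoped TensorProduct

universe u v w

namespace GrothLib.SymExt21

variable (V : Type v) [AddCommGroup V] [Module (ZMod 2) V]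

/-- The span of the squares. -/
abbrev Na : Submodule (ZMod 2) (V ⊗[ZMod 2] V) :=
  Submodule.span (ZMod 2) (Set.range fun v : V => v ⊗ₜ[ZMod 2] v)

/-- The span of the symmetrised tensors. -/
abbrev Ns : Submodule (ZMod 2) (V ⊗[ZMod 2] V) :=
  Submodule.span (ZMod 2) (Set.range fun p : V × V => p.1 ⊗ₜ[ZMod 2] p.2 + p.2 ⊗ₜ[ZMod 2] p.1)

variable {V}

theorem add_self {M : Type*} [AddCommGroup M] [Module (ZMod 2) M] (x : M) : x + x = 0 := by
  rw [← two_smul (ZMod 2) x, show (2 : ZMod 2) = 0 by decide, zero_smul]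

theorem sub_eq_add' {M : Type*} [AddCommGroup M] [Module (ZMod 2) M] (x y : M) : x - y = x + y := by
  rw [sub_eq_add_neg, neg_eq_of_add_eq_zero_left (add_self y)]

theorem Ns_le_Na : Ns V ≤ Na V := by
  rw [Submodule.span_le]
  rintro _ ⟨⟨x, y⟩, rfl⟩
  have h1 : (x + y) ⊗ₜ[ZMod 2] (x + y) ∈ Na V := Submodule.subset_span ⟨x + y, rfl⟩
  have h2 : x ⊗ₜ[ZMod 2] x ∈ Na V := Submodule.subset_span ⟨x, rfl⟩
  have h3 : y ⊗ₜ[ZMod 2] y ∈ Na V := Submodule.subset_span ⟨y, rfl⟩
  have h4 := sub_mem (sub_mem h1 h2) h3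
  rw [TensorProduct.add_tmul, TensorProduct.tmul_add, TensorProduct.tmul_add] at h4
  refine SetLike.mem_coe.2 ?_
  convert h4 using 1
  simp only
  abel

theorem tmul_add_tmul_swap_mem (x y : V) : x ⊗ₜ[ZMod 2] y + y ⊗ₜ[ZMod 2] x ∈ Ns V :=
  Submodule.subset_span ⟨(x, y), rfl⟩

variable {G : Type u} [Group G] (ρ : Representation (ZMod 2) G V)

theorem tprod_mem_Ns (g : G) {z : V ⊗[ZMod 2] V} (hz : z ∈ Ns V) : ρ.tprod ρ g z ∈ Ns V := by
  induction hz using Submodule.span_induction with
  | mem z hz =>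
    obtain ⟨⟨x, y⟩, rfl⟩ := hz
    simp only [map_add, Representation.tprod_apply, TensorProduct.map_tmul]
    exact tmul_add_tmul_swap_mem _ _
  | zero => simp
  | add x y _ _ hx hy => rw [map_add]; exact add_mem hx hy
  | smul c x _ hx => rw [map_smul]; exact Submodule.smul_mem _ c hx

/-- The norm form of a pair. -/
noncomputable def normT (x y : V) : V ⊗[ZMod 2] V := x ⊗ₜ x + x ⊗ₜ y + y ⊗ₜ y

theorem table : ∀ a b c d : ZMod 2, a * d + b * c = 1 →
    a * a + a * b + b * b = 1 ∧ c * c + c * d + d * d = 1 ∧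
      (a * c + a * d + b * d) = 1 + (c * a + c * b + d * b) := by decide

theorem normT_map {x y x' y' : V} {a b c d : ZMod 2} (hx : x' = a • x + c • y) (hy : y' = b • x + d • y)
    (hdet : a * d + b * c = 1) : normT x' y' - normT x y ∈ Ns V := by
  obtain ⟨h1, h2, h3⟩ := table a b c d hdet
  have hexp : normT x' y' = (a * a + a * b + b * b) • (x ⊗ₜ[ZMod 2] x) + (a * c + a * d + b * d) • (x ⊗ₜ[ZMod 2] y) +
      (c * a + c * b + d * b) • (y ⊗ₜ[ZMod 2] x) + (c * c + c * d + d * d) • (y ⊗ₜ[ZMod 2] y) := by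
    subst hx hy
    simp only [normT, TensorProduct.add_tmul, TensorProduct.tmul_add, TensorProduct.tmul_smul, TensorProduct.smul_tmul',
      add_smul, smul_add, smul_smul, mul_comm]
    abel
  rw [hexp, h1, h2, h3, add_smul, one_smul, one_smul, normT]
  have h4 : (c * a + c * b + d * b) • (x ⊗ₜ[ZMod 2] y + y ⊗ₜ[ZMod 2] x) ∈ Ns V :=
    Submodule.smul_mem _ _ (tmul_add_tmul_swap_mem x y)
  convert h4 using 1
  rw [smul_add, one_smul]
  abel

section Basis

variable {ι : Type w} (b : Module.Basis ι (ZMod 2) V)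

/-- The functional reading off the `(i, j)` coefficient of the exterior square. -/
noncomputable def wedgeCoord (i j : ι) : V ⊗[ZMod 2] V →ₗ[ZMod 2] ZMod 2 :=
  (b.tensorProduct b).coord (i, j) + (b.tensorProduct b).coord (j, i)

theorem wedgeCoord_tmul (i j : ι) (x y : V) :
    wedgeCoord b i j (x ⊗ₜ y) = b.repr x i * b.repr y j + b.repr x j * b.repr y i := by
  simp [wedgeCoord, Module.Basis.tensorProduct_repr_tmul_apply, mul_comm]

theorem wedgeCoord_Na (i j : ι) {z : V ⊗[ZMod 2] V} (hz : z ∈ Na V) : wedgeCoord b i j z = 0 := by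
  induction hz using Submodule.span_induction with
  | mem z hz =>
    obtain ⟨x, rfl⟩ := hz
    rw [wedgeCoord_tmul, mul_comm (b.repr x j)]
    exact add_self _
  | zero => simp
  | add x y _ _ hx hy => rw [map_add, hx, hy, add_zero]
  | smul c x _ hx => rw [map_smul, hx, smul_zero]

theorem perm_split (hb : ∀ g : G, ∀ i : ι, ∃ j : ι, ρ g (b i) = b j) :
    ∃ W : Submodule (ZMod 2) (V ⊗[ZMod 2] V), (∀ g : G, ∀ w ∈ W, ρ.tprod ρ g w ∈ W) ∧
      W ⊓ Na V = Ns V ∧ W ⊔ Na V = ⊤ := by
  classical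
  let B := b.tensorProduct b
  let off : Set (ι × ι) := {p | p.1 ≠ p.2}
  let W := Submodule.span (ZMod 2) (B '' off)
  let D := Submodule.span (ZMod 2) (B '' offᶜ)
  have hBapp : ∀ i j, B (i, j) = b i ⊗ₜ b j := fun i j => Module.Basis.tensorProduct_apply b b i j
  have hdiag : ∀ i, b i ⊗ₜ[ZMod 2] b i ∈ D := fun i =>
    Submodule.subset_span ⟨(i, i), by simp [off], hBapp i i⟩
  have hsW : ∀ x y : V, x ⊗ₜ[ZMod 2] y + y ⊗ₜ[ZMod 2] x ∈ W := by
    let f : V ⊗[ZMod 2] V →ₗ[ZMod 2] V ⊗[ZMod 2] V :=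
      LinearMap.id + (TensorProduct.comm (ZMod 2) V V).toLinearMap
    have : LinearMap.range f ≤ W := by
      rw [LinearMap.range_eq_map, ← B.span_eq, Submodule.map_span, Submodule.span_le]
      rintro _ ⟨_, ⟨⟨i, j⟩, rfl⟩, rfl⟩
      rw [hBapp]
      show b i ⊗ₜ b j + b j ⊗ₜ b i ∈ W
      rcases eq_or_ne i j with rfl | hij
      · rw [add_self]; exact W.zero_mem
      · exact W.add_mem (Submodule.subset_span ⟨(i, j), hij, hBapp i j⟩) (Submodule.subset_span ⟨(j, i), hij.symm, hBapp j i⟩)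
    intro x y
    exact this ⟨x ⊗ₜ y, rfl⟩
  have hNsW : Ns V ≤ W := Submodule.span_le.2 (by rintro _ ⟨⟨x, y⟩, rfl⟩; exact hsW x y)
  have hNa : Na V ≤ Ns V ⊔ D := by
    rw [Submodule.span_le]
    rintro _ ⟨x, rfl⟩
    have hx : x ∈ Submodule.span (ZMod 2) (Set.range b) := b.mem_span x
    induction hx using Submodule.span_induction with
    | mem z hz => obtain ⟨i, rfl⟩ := hz; exact Submodule.mem_sup_right (hdiag i)
    | zero => simp
    | add y z _ _ hy hz =>
      simp only [TensorProduct.add_tmul, TensorProduct.tmul_add]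
      have h := add_mem (add_mem hy hz) (Submodule.mem_sup_left (T := D) (tmul_add_tmul_swap_mem y z))
      refine SetLike.mem_coe.2 ?_
      convert h using 1
      abel
    | smul c y _ hy =>
      simp only [TensorProduct.smul_tmul', TensorProduct.tmul_smul]
      exact Submodule.smul_mem _ _ (Submodule.smul_mem _ _ hy)
  refine ⟨W, fun g w hw => ?_, le_antisymm (fun z hz => ?_) (le_inf hNsW Ns_le_Na), ?_⟩
  · induction hw using Submodule.span_induction with
    | mem z hz =>
      obtain ⟨⟨i, j⟩, hij, rfl⟩ := hz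
      rw [hBapp, Representation.tprod_apply, TensorProduct.map_tmul]
      obtain ⟨i', hi⟩ := hb g i
      obtain ⟨j', hj⟩ := hb g j
      rw [hi, hj]
      refine Submodule.subset_span ⟨(i', j'), fun h => hij (b.injective ?_), hBapp i' j'⟩
      have h' : ρ g (b i) = ρ g (b j) := by rw [hi, hj]; exact congrArg b h
      have h'' := congrArg (ρ g⁻¹) h'
      simpa [← Module.End.mul_apply, ← map_mul] using h''
    | zero => simp
    | add x y _ _ hx hy => rw [map_add]; exact add_mem hx hy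
    | smul c x _ hx => rw [map_smul]; exact Submodule.smul_mem _ c hx
  · obtain ⟨s, hs, d, hd, rfl⟩ := Submodule.mem_sup.1 (hNa hz.2)
    have hdW : d ∈ W := by
      have := sub_mem hz.1 (hNsW hs)
      rwa [add_sub_cancel_left] at this
    have : d = 0 := Submodule.disjoint_def.1
      (B.linearIndependent.disjoint_span_image disjoint_compl_right) d hdW hd
    simpa [this] using hs
  · rw [eq_top_iff, ← B.span_eq, Submodule.span_le]
    rintro _ ⟨⟨i, j⟩, rfl⟩
    rcases eq_or_ne i j with rfl | hij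
    · exact Submodule.mem_sup_right (Submodule.subset_span ⟨b i, (hBapp i i).symm⟩)
    · exact Submodule.mem_sup_left (Submodule.subset_span ⟨(i, j), hij, rfl⟩)

end Basis

end GrothLib.SymExt21
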